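import Mathlib
import Groth.Prelude.Def_Flat

/-! The Stein factorization `S' → S` of a proper morphism with geometrically connected fibres is a
universal homeomorphism. -/

universe u
set_option linter.style.haveILetI false
open CategoryTheory AlgebraicGeometry Limits

namespace Groth.Agent.H8.Stein

section Ring

/-- In a ring integral over a field with connected spectrum every element is nilpotent or a unit. -/
theorem isNilpotent_or_isUnit {K B : Type*} [Field K] [CommRing B] (ι : K →+* B)
    (hι : ι.IsIntegral) [ConnectedSpace (PrimeSpectrum B)] (b : B) : IsNilpotent b ∨ IsUnit b := by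
  obtain ⟨p, hp, hpb⟩ := hι b
  have hp0 : p ≠ 0 := hp.ne_zero
  obtain ⟨q, hq, hqX⟩ := Polynomial.exists_eq_pow_rootMultiplicity_mul_and_not_dvd p hp0 0
  set n := p.rootMultiplicity 0 with hn
  simp only [map_zero, sub_zero] at hq hqX
  have hq0 : q.coeff 0 ≠ 0 := fun h => hqX (Polynomial.X_dvd_iff.mpr h)
  -- the relation b^n * (1 - b * c) = 0
  obtain ⟨c, hc⟩ : ∃ c : B, b ^ n * (1 - b * c) = 0 := by
    refine ⟨-(Polynomial.eval₂ ι b q.divX) * ι (q.coeff 0)⁻¹, ?_⟩
    have h1 : Polynomial.eval₂ ι b p = b ^ n * Polynomial.eval₂ ι b q := by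
      conv_lhs => rw [hq]
      rw [Polynomial.eval₂_mul, Polynomial.eval₂_pow, Polynomial.eval₂_X]
    have h2 : Polynomial.eval₂ ι b q = Polynomial.eval₂ ι b q.divX * b + ι (q.coeff 0) := by
      conv_lhs => rw [← Polynomial.divX_mul_X_add q]
      rw [Polynomial.eval₂_add, Polynomial.eval₂_mul, Polynomial.eval₂_X, Polynomial.eval₂_C]
    have h3 : ι (q.coeff 0) * ι (q.coeff 0)⁻¹ = 1 := by
      rw [← map_mul, mul_inv_cancel₀ hq0, map_one]
    have h4 : b ^ n * (Polynomial.eval₂ ι b q.divX * b + ι (q.coeff 0)) = 0 := by
      rw [← h2, ← h1, hpb]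
    calc b ^ n * (1 - b * (-(Polynomial.eval₂ ι b q.divX) * ι (q.coeff 0)⁻¹))
        = b ^ n * (Polynomial.eval₂ ι b q.divX * b + ι (q.coeff 0)) * ι (q.coeff 0)⁻¹ +
          b ^ n * (1 - ι (q.coeff 0) * ι (q.coeff 0)⁻¹) := by ring
      _ = 0 := by rw [h4, h3]; ring
  -- D(b) is clopen
  have hcompl : ((PrimeSpectrum.basicOpen b : TopologicalSpace.Opens (PrimeSpectrum B)) :
      Set (PrimeSpectrum B))ᶜ = (PrimeSpectrum.basicOpen (1 - b * c) :
        TopologicalSpace.Opens (PrimeSpectrum B)) := by
    ext x
    simp only [Set.mem_compl_iff, SetLike.mem_coe, PrimeSpectrum.mem_basicOpen, not_not]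
    constructor
    · intro hb h1
      have : (1 : B) ∈ x.asIdeal := by
        have h2 : b * c ∈ x.asIdeal := x.asIdeal.mul_mem_right c hb
        have := x.asIdeal.add_mem h1 h2
        simpa using this
      exact x.isPrime.ne_top ((Ideal.eq_top_iff_one _).mpr this)
    · intro h1
      have h0 : b ^ n * (1 - b * c) ∈ x.asIdeal := by rw [hc]; exact x.asIdeal.zero_mem
      rcases x.isPrime.mem_or_mem h0 with h | h
      · exact x.isPrime.mem_of_pow_mem n h
      · exact absurd h h1
  have hclopen : IsClopen ((PrimeSpectrum.basicOpen b : TopologicalSpace.Opens (PrimeSpectrum B)) :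
      Set (PrimeSpectrum B)) := by
    refine ⟨?_, (PrimeSpectrum.basicOpen b).isOpen⟩
    rw [← isOpen_compl_iff, hcompl]
    exact (PrimeSpectrum.basicOpen (1 - b * c)).isOpen
  rcases isClopen_iff.mp hclopen with h | h
  · left
    rw [← PrimeSpectrum.basicOpen_eq_bot_iff]
    exact TopologicalSpace.Opens.ext h
  · right
    by_contra hu
    obtain ⟨m, hm, hbm⟩ := exists_max_ideal_of_mem_nonunits (mem_nonunits_iff.mpr hu)
    have : (⟨m, hm.isPrime⟩ : PrimeSpectrum B) ∈
        ((PrimeSpectrum.basicOpen b : TopologicalSpace.Opens (PrimeSpectrum B)) :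
          Set (PrimeSpectrum B)) := by rw [h]; trivial
    exact this hbm

/-- two retractions of an integral extension of a field with connected spectrum agree -/
theorem retraction_unique {K B : Type*} [Field K] [CommRing B] (ι : K →+* B)
    (hι : ι.IsIntegral) [ConnectedSpace (PrimeSpectrum B)] (φ₁ φ₂ : B →+* K)
    (h₁ : φ₁.comp ι = RingHom.id K) (h₂ : φ₂.comp ι = RingHom.id K) : φ₁ = φ₂ := by
  ext b
  have e₁ : ∀ c : K, φ₁ (ι c) = c := fun c => RingHom.congr_fun h₁ c
  have e₂ : ∀ c : K, φ₂ (ι c) = c := fun c => RingHom.congr_fun h₂ c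
  have hnu : ¬ IsUnit (b - ι (φ₁ b)) := by
    intro hu
    have := hu.map φ₁
    rw [map_sub, e₁, sub_self] at this
    exact not_isUnit_zero this
  rcases isNilpotent_or_isUnit ι hι (b - ι (φ₁ b)) with h | h
  · have h2 := (h.map φ₂).eq_zero
    rw [map_sub, e₂, sub_eq_zero] at h2
    exact h2.symm
  · exact absurd h hnu

/-- version with a ring which is only known to be a field -/
theorem retraction_unique' {R B : Type*} [CommRing R] (hR : IsField R) [CommRing B] (ι : R →+* B)
    (hι : ι.IsIntegral) [ConnectedSpace (PrimeSpectrum B)] (φ₁ φ₂ : B →+* R)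
    (h₁ : φ₁.comp ι = RingHom.id R) (h₂ : φ₂.comp ι = RingHom.id R) : φ₁ = φ₂ := by
  letI := hR.toField
  exact retraction_unique ι hι φ₁ φ₂ h₁ h₂

end Ring

section Scheme

variable {X S : Scheme.{u}} (f : X ⟶ S)

theorem surjective_toNormalization [IsProper f] : Surjective f.toNormalization := by
  have hclosed : IsClosedMap f.toNormalization := f.toNormalization.isClosedMap
  have hdense : DenseRange f.toNormalization := f.toNormalization.denseRange
  constructor
  have h1 : Set.range f.toNormalization = Set.univ := by
    have h2 : closure (Set.range f.toNormalization) = Set.range f.toNormalization :=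
      hclosed.isClosed_range.closure_eq
    rw [← h2]
    exact hdense.closure_range
  exact Set.range_eq_univ.mp h1

theorem universallyInjective_fromNormalization [IsProper f] [GeometricallyConnected f] :
    UniversallyInjective f.fromNormalization := by
  have htfae := (tfae_universallyInjective f.fromNormalization).out 0 1
  rw [htfae]
  intro K _ a₁ a₂ h12
  change a₁ ≫ f.fromNormalization = a₂ ≫ f.fromNormalization at h12
  set b := a₁ ≫ f.fromNormalization with hb
  let σ₁ : Spec (.of K) ⟶ pullback f.fromNormalization b :=
    pullback.lift a₁ (𝟙 _) (by rw [Category.id_comp])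
  let σ₂ : Spec (.of K) ⟶ pullback f.fromNormalization b :=
    pullback.lift a₂ (𝟙 _) (by rw [Category.id_comp, h12])
  have hσ₁ : σ₁ ≫ pullback.fst _ _ = a₁ := pullback.lift_fst _ _ _
  have hσ₂ : σ₂ ≫ pullback.fst _ _ = a₂ := pullback.lift_fst _ _ _
  have hs₁ : σ₁ ≫ pullback.snd _ _ = 𝟙 _ := pullback.lift_snd _ _ _
  have hs₂ : σ₂ ≫ pullback.snd _ _ = 𝟙 _ := pullback.lift_snd _ _ _
  suffices h : σ₁ = σ₂ by rw [← hσ₁, ← hσ₂, h]
  haveI : IsAffine (pullback f.fromNormalization b) :=
    isAffine_of_isAffineHom (pullback.snd f.fromNormalization b)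
  -- the base change of X is connected and surjects onto P
  haveI hXK : ConnectedSpace ↥(pullback f b) :=
    (GeometricallyConnected.geometrically_connectedSpace (f := f)) b (pullback.fst f b)
      (pullback.snd f b) (IsPullback.of_hasPullback f b)
  let m : pullback f b ⟶ pullback f.fromNormalization b :=
    pullback.map f b f.fromNormalization b f.toNormalization (𝟙 _) (𝟙 _)
      (by rw [Category.comp_id, f.toNormalization_fromNormalization])
      (by rw [Category.comp_id, Category.id_comp])
  have hm1 : m ≫ pullback.snd f.fromNormalization b = pullback.snd f b :=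
    (pullback.lift_snd _ _ _).trans (Category.comp_id _)
  have hm2 : m ≫ pullback.fst f.fromNormalization b = pullback.fst f b ≫ f.toNormalization :=
    pullback.lift_fst _ _ _
  have big : IsPullback (m ≫ pullback.snd f.fromNormalization b) (pullback.fst f b) b
      (f.toNormalization ≫ f.fromNormalization) := by
    rw [hm1, f.toNormalization_fromNormalization]
    exact (IsPullback.of_hasPullback f b).flip
  have sq : IsPullback m (pullback.fst f b) (pullback.fst f.fromNormalization b)
      f.toNormalization :=
    IsPullback.of_right big hm2 (IsPullback.of_hasPullback f.fromNormalization b).flip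
  haveI : Surjective f.toNormalization := surjective_toNormalization f
  haveI : Surjective m := MorphismProperty.of_isPullback (P := @Surjective) sq.flip inferInstance
  haveI hP : ConnectedSpace ↥(pullback f.fromNormalization b) :=
    Function.Surjective.connectedSpace m.surjective m.continuous
  haveI hSpec : ConnectedSpace
      (PrimeSpectrum Γ(pullback f.fromNormalization b, ⊤)) :=
    Function.Surjective.connectedSpace
      (pullback f.fromNormalization b).isoSpec.hom.surjective
      (pullback f.fromNormalization b).isoSpec.hom.continuous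
  -- the ring-theoretic statement
  have hR : IsField Γ(Spec (.of K), ⊤) :=
    MulEquiv.isField (Field.toIsField K)
      (Scheme.ΓSpecIso (.of K)).commRingCatIsoToRingEquiv.toMulEquiv
  have hint : (pullback.snd f.fromNormalization b).appTop.hom.IsIntegral :=
    (pullback.snd f.fromNormalization b).isIntegral_app ⊤ (isAffineOpen_top _)
  have key : σ₁.appTop.hom = σ₂.appTop.hom := by
    refine retraction_unique' hR _ hint _ _ ?_ ?_
    · have := congrArg (fun t => t.appTop.hom) hs₁
      simpa using this
    · have := congrArg (fun t => t.appTop.hom) hs₂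
      simpa using this
  exact ext_of_isAffine (CommRingCat.hom_ext key)

theorem isUnivHomeo_fromNormalization [IsProper f] [GeometricallyConnected f] :
    FlatMor.IsUnivHomeo f.fromNormalization := by
  haveI := universallyInjective_fromNormalization f
  haveI : Surjective f.fromNormalization := by
    haveI : Surjective (f.toNormalization ≫ f.fromNormalization) := by
      rw [f.toNormalization_fromNormalization]; infer_instance
    exact Surjective.of_comp f.toNormalization f.fromNormalization
  intro X' Y' i₁ i₂ g' sq
  haveI : IsIntegralHom g' :=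
    MorphismProperty.of_isPullback (P := @IsIntegralHom) sq.flip inferInstance
  haveI : UniversallyInjective g' :=
    MorphismProperty.of_isPullback (P := @UniversallyInjective) sq.flip inferInstance
  haveI : Surjective g' :=
    MorphismProperty.of_isPullback (P := @Surjective) sq.flip inferInstance
  change IsHomeomorph g'
  rw [isHomeomorph_iff_continuous_isClosedMap_bijective]
  exact ⟨g'.continuous, g'.isClosedMap, g'.injective, g'.surjective⟩

end Scheme

end Groth.Agent.H8.Stein
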